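import Groth.Agent.SmFormalLib.Chart

/-!
# Local smooth formal liftings of morphisms
-/

set_option autoImplicit false
set_option linter.style.haveILetI false

universe u

open CategoryTheory CategoryTheory.Limits AlgebraicGeometry FSch

noncomputable section

namespace SmFormalLib

/-- Two ring maps on the bottom level agree if they agree after composing with the identification. -/
theorem bottom_eq {B A C D : Type u} [CommRing B] [CommRing A] [CommRing C] [CommRing D] {I : Ideal B}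
    {I' : Ideal A} (φ : B →+* C) (hφ : Function.Surjective φ) (θV : C →+* B ⧸ I ^ (0 + 1))
    (θU : D →+* A ⧸ I' ^ (0 + 1)) (f₀ : C →+* D) (g : B →+* A ⧸ I' ^ (0 + 1))
    (P : B ⧸ I ^ (0 + 1) →+* A ⧸ I' ^ (0 + 1)) (hP : P.comp (Ideal.Quotient.mk _) = g)
    (hθ : ∀ z, θV (φ z) = Ideal.Quotient.mk _ z)
    (h2 : I' ^ (0 + 1) ≤ I') (hg : ∀ z, Ideal.Quotient.factor h2 (g z) = Ideal.Quotient.factor h2 (θU (f₀ (φ z)))) :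
    P.comp θV = θU.comp f₀ := by
  refine RingHom.ext fun c => ?_
  obtain ⟨z, rfl⟩ := hφ c
  show P (θV (φ z)) = θU (f₀ (φ z))
  rw [hθ z, show P (Ideal.Quotient.mk _ z) = g z from RingHom.congr_fun hP z]
  obtain ⟨u, hu⟩ := Ideal.Quotient.mk_surjective (g z)
  obtain ⟨v, hv⟩ := Ideal.Quotient.mk_surjective (θU (f₀ (φ z)))
  have h := hg z
  rw [← hu, ← hv, Ideal.Quotient.factor_mk, Ideal.Quotient.factor_mk, Ideal.Quotient.eq] at h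
  rw [← hu, ← hv, Ideal.Quotient.eq]
  simpa using h

variable {S : Scheme.{u}} (𝒥 : S.IdealSheafData)

theorem exists_local_lift {X₀ Y₀ : Scheme.{u}} (a : X₀ ⟶ (𝒥 ^ (0 + 1)).subscheme) (b : Y₀ ⟶ (𝒥 ^ (0 + 1)).subscheme)
    [AlgebraicGeometry.Smooth a] [AlgebraicGeometry.Smooth b] (f : X₀ ⟶ Y₀) (w : f ≫ b = a) (x : X₀) :
    ∃ (U₀ : X₀.Opens) (V₀ : Y₀.Opens) (_ : x ∈ U₀) (hUV : U₀ ≤ f ⁻¹ᵁ V₀)
      (𝔘 𝔙 : FSch.Sys.{u}) (p : 𝔘 ⟶ FSch.completionAlong S 𝒥) (q : 𝔙 ⟶ FSch.completionAlong S 𝒥)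
      (Φ : 𝔘 ⟶ 𝔙) (eU : 𝔘.X 0 ≅ U₀.toScheme) (eV : 𝔙.X 0 ≅ V₀.toScheme),
      Φ ≫ q = p ∧ FSch.IsAdicHom p ∧ FSch.IsAdicHom q ∧
      (∀ n : ℕ, AlgebraicGeometry.Smooth ((p : FSch.Hom 𝔘 _).app n)) ∧
      (∀ n : ℕ, AlgebraicGeometry.Smooth ((q : FSch.Hom 𝔙 _).app n)) ∧
      eU.hom ≫ U₀.ι ≫ a = (p : FSch.Hom 𝔘 _).app 0 ∧
      eV.hom ≫ V₀.ι ≫ b = (q : FSch.Hom 𝔙 _).app 0 ∧
      (Φ : FSch.Hom 𝔘 𝔙).app 0 ≫ eV.hom = eU.hom ≫ f.resLE V₀ U₀ hUV := by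
  let gY := b ≫ (𝒥 ^ (0 + 1)).subschemeι
  let gX := a ≫ (𝒥 ^ (0 + 1)).subschemeι
  have hfg : f ≫ gY = gX := by rw [← Category.assoc, w]
  obtain ⟨U, hU, hxU, -⟩ := exists_isAffineOpen_mem_and_subset (show gY (f x) ∈ (⊤ : S.Opens) from trivial)
  have hJ : (𝒥 ^ (0 + 1)).ideal ⟨U, hU⟩ = 𝒥.ideal ⟨U, hU⟩ := by simp
  obtain ⟨V₀, hV₀, hyV, hVW, B, _, τB, φB, hB, hBsurj, hBφ, hBker⟩ :=
    exists_chart (𝒥 ^ (0 + 1)) b ⟨U, hU⟩ (f x) (gY ⁻¹ᵁ U) hxU le_rfl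
  have hxW : x ∈ (f ⁻¹ᵁ V₀) := hyV
  have hWX : f ⁻¹ᵁ V₀ ≤ gX ⁻¹ᵁ U := by
    rw [← hfg]
    exact f.preimage_mono hVW
  obtain ⟨U₀, hU₀, hxU₀, hUV, A, _, τA, φA, hA, hAsurj, hAφ, hAker⟩ :=
    exists_chart (𝒥 ^ (0 + 1)) a ⟨U, hU⟩ x (f ⁻¹ᵁ V₀) hxW hWX
  rw [hJ] at hBker hAker
  obtain ⟨θV, iV, hθV, hiV, hiVb⟩ := exists_bottomIso 𝒥 ⟨U, hU⟩ τB b hV₀ (hVW.trans le_rfl) φB hBsurj hBφ
    (by rw [zero_add, pow_one]; exact hBker)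
  obtain ⟨θU, iU, hθU, hiU, hiUa⟩ := exists_bottomIso 𝒥 ⟨U, hU⟩ τA a hU₀ (hUV.trans hWX) φA hAsurj hAφ
    (by rw [zero_add, pow_one]; exact hAker)
  let f₀ := (f.appLE V₀ U₀ hUV).hom
  have h2 : (chI 𝒥 ⟨U, hU⟩ τA) ^ (0 + 1) ≤ chI 𝒥 ⟨U, hU⟩ τA := Ideal.pow_le_self (0 : ℕ).succ_ne_zero
  let g₀ : B →+* A ⧸ chI 𝒥 ⟨U, hU⟩ τA := (Ideal.Quotient.factor h2).comp ((θU.comp f₀).comp φB)
  have hcomp : f₀.comp (φB.comp τB) = φA.comp τA := by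
    rw [hBφ, hAφ]
    have h := Scheme.Hom.appLE_comp_appLE f gY U V₀ U₀ hVW hUV
    have e := congrArg CommRingCat.Hom.hom h
    simp only [hfg] at e
    exact e
  have h₀ : g₀.comp τB = (Ideal.Quotient.mk _).comp τA := by
    refine RingHom.ext fun r => ?_
    show Ideal.Quotient.factor h2 (θU (f₀ (φB (τB r)))) = _
    rw [show f₀ (φB (τB r)) = φA (τA r) from RingHom.congr_fun hcomp r, hθU (τA r), Ideal.Quotient.factor_mk]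
    rfl
  obtain ⟨g, hgτ, hgc, hg0⟩ := exists_lifts τB hB τA (chI 𝒥 ⟨U, hU⟩ τA) g₀ h₀
  obtain ⟨Φ, hΦ, hΦ0⟩ := exists_chartHom 𝒥 ⟨U, hU⟩ τB τA g hgτ hgc
  refine ⟨U₀, V₀, hxU₀, hUV, _, _, chHom 𝒥 ⟨U, hU⟩ τA, chHom 𝒥 ⟨U, hU⟩ τB, Φ, iU, iV, hΦ,
    isAdicHom_chHom 𝒥 ⟨U, hU⟩ τA, isAdicHom_chHom 𝒥 ⟨U, hU⟩ τB, smooth_chMap 𝒥 ⟨U, hU⟩ τA hA,
    smooth_chMap 𝒥 ⟨U, hU⟩ τB hB, hiUa, hiVb, ?_⟩
  obtain ⟨P, hP⟩ : ∃ P, Spec.map P = (Φ : FSch.Hom _ _).app 0 := ⟨_, Spec.map_preimage _⟩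
  have hP0 : P.hom.comp (Ideal.Quotient.mk _) = g 0 := by
    have h := hΦ0 0
    rw [← hP] at h
    erw [← Spec.map_comp] at h
    exact congrArg CommRingCat.Hom.hom (Spec.map_injective h)
  have key : P.hom.comp θV = θU.comp f₀ :=
    bottom_eq φB hBsurj θV θU f₀ (g 0) P.hom hP0 hθV h2 fun z => RingHom.congr_fun hg0 z
  refine (cancel_mono V₀.ι).1 ?_
  have e1 : iU.hom ≫ U₀.ι ≫ f = Spec.map (CommRingCat.ofHom (θU.comp f₀)) ≫ hV₀.fromSpec := by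
    rw [← Category.assoc, hiU, Category.assoc, ← IsAffineOpen.SpecMap_appLE_fromSpec f hV₀ hU₀ hUV,
      ← Category.assoc, ← Spec.map_comp]
    rfl
  have e2 : Spec.map P ≫ iV.hom ≫ V₀.ι = Spec.map (CommRingCat.ofHom (P.hom.comp θV)) ≫ hV₀.fromSpec := by
    rw [hiV, ← Category.assoc, ← Spec.map_comp]
    rfl
  rw [Category.assoc, Category.assoc, Scheme.Hom.resLE_comp_ι, ← hP]
  exact e2.trans ((congrArg (fun h => Spec.map (CommRingCat.ofHom h) ≫ hV₀.fromSpec) key).trans e1.symm)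

end SmFormalLib
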