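import Groth.Agent.SmFormalLib.Ring
import Groth.Agent.FComplLib.Spf
import Groth.Agent.BlowUpLib.Props
import Mathlib.AlgebraicGeometry.Morphisms.Smooth

/-!
# Affine charts of smooth formal schemes over the completion of a scheme along an ideal sheaf
-/

set_option autoImplicit false
set_option linter.style.haveILetI false

universe u

open CategoryTheory CategoryTheory.Limits AlgebraicGeometry FSch

noncomputable section

namespace SmFormalLib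

variable {S : Scheme.{u}} (𝒥 : S.IdealSheafData) (U : S.affineOpens) {B : Type u} [CommRing B]
  (τ : Γ(S, U.1) →+* B)

/-- The ideal of the chart. -/
abbrev chI : Ideal B := (𝒥.ideal U).map τ

/-- The map of a chart to the base scheme. -/
abbrev chBase : Spec (CommRingCat.of B) ⟶ S := Spec.map (CommRingCat.ofHom τ) ≫ U.2.fromSpec

/-- The transition maps between the quotients by successive powers. -/
abbrev qFactor {C : Type u} [CommRing C] (I : Ideal C) (n : ℕ) : C ⧸ I ^ (n + 1 + 1) →+* C ⧸ I ^ (n + 1) :=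
  Ideal.Quotient.factor (Ideal.pow_le_pow_right (I := I) (Nat.le_succ (n + 1)))

/-- The transition maps of a formal spectrum, with a successor index. -/
def qTrans {C : Type u} [CommRing C] (I : Ideal C) (n : ℕ) :
    Spec (CommRingCat.of (C ⧸ I ^ (n + 1))) ⟶ Spec (CommRingCat.of (C ⧸ I ^ (n + 1 + 1))) :=
  CohB1.specQuotTrans I n

theorem qTrans_specQuot {C : Type u} [CommRing C] (I : Ideal C) (n : ℕ) :
    qTrans I n ≫ CohB1.specQuot I (n + 1) = CohB1.specQuot I n :=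
  CohB1.specQuotTrans_specQuot I n

theorem qTrans_natural {B' A' : Type u} [CommRing B'] [CommRing A'] (I : Ideal B') (I' : Ideal A') (n : ℕ)
    (G : B' ⧸ I ^ (n + 1) →+* A' ⧸ I' ^ (n + 1)) (G' : B' ⧸ I ^ (n + 1 + 1) →+* A' ⧸ I' ^ (n + 1 + 1))
    (h : G.comp (qFactor I n) = (qFactor I' n).comp G') :
    Spec.map (CommRingCat.ofHom G) ≫ qTrans I n = qTrans I' n ≫ Spec.map (CommRingCat.ofHom G') := by
  have hI : qTrans I n = Spec.map (CommRingCat.ofHom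
      (Ideal.Quotient.factor (Ideal.pow_le_pow_right (I := I) (Nat.le_succ (n + 1))))) := rfl
  have hI' : qTrans I' n = Spec.map (CommRingCat.ofHom
      (Ideal.Quotient.factor (Ideal.pow_le_pow_right (I := I') (Nat.le_succ (n + 1))))) := rfl
  rw [hI, hI', ← Spec.map_comp, ← Spec.map_comp, ← CommRingCat.ofHom_comp, ← CommRingCat.ofHom_comp, h]

/-- A morphism of formal spectra from compatible maps of the levels. -/
theorem exists_spfHom {B' A' : Type u} [CommRing B'] [CommRing A'] (I : Ideal B') (I' : Ideal A')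
    (G : ∀ n, B' ⧸ I ^ (n + 1) →+* A' ⧸ I' ^ (n + 1))
    (h : ∀ n, (G n).comp (qFactor I n) = (qFactor I' n).comp (G (n + 1))) :
    ∃ Φ : spf A' I' ⟶ spf B' I, ∀ n, (Φ : FSch.Hom _ _).app n = Spec.map (CommRingCat.ofHom (G n)) := by
  exact ⟨⟨fun n => Spec.map (CommRingCat.ofHom (G n)),
    fun n => qTrans_natural I I' n (G n) (G (n + 1)) (h n)⟩, fun n => rfl⟩

theorem comap_pow_chBase (n : ℕ) :
    (𝒥 ^ (n + 1)).comap (chBase U τ) = BlowUpLib.specIdeal ((chI 𝒥 U τ) ^ (n + 1)) := by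
  rw [FComplLib.comap_pow_succ, Scheme.IdealSheafData.comap_comp, BlowUpLib.comap_fromSpec]
  erw [BlowUpLib.comap_specIdeal]
  exact (FComplLib.specIdeal_pow _ n).symm

theorem ker_specQuot (n : ℕ) :
    (CohB1.specQuot (chI 𝒥 U τ) n).ker = BlowUpLib.specIdeal ((chI 𝒥 U τ) ^ (n + 1)) := by
  rw [CohB1.specQuot, FComplLib.ker_specMap, Ideal.mk_ker]

/-- The structure map of the `n`-th level of a chart. -/
def chMap (n : ℕ) : Spec (CommRingCat.of (B ⧸ (chI 𝒥 U τ) ^ (n + 1))) ⟶ (𝒥 ^ (n + 1)).subscheme :=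
  IsClosedImmersion.lift (𝒥 ^ (n + 1)).subschemeι (CohB1.specQuot (chI 𝒥 U τ) n ≫ chBase U τ) (by
    rw [Scheme.IdealSheafData.ker_subschemeι, ← Scheme.IdealSheafData.map_ker,
      Scheme.IdealSheafData.le_map_iff_comap_le, comap_pow_chBase, ker_specQuot])

theorem chMap_ι (n : ℕ) :
    chMap 𝒥 U τ n ≫ (𝒥 ^ (n + 1)).subschemeι = CohB1.specQuot (chI 𝒥 U τ) n ≫ chBase U τ :=
  IsClosedImmersion.lift_fac _ _ _

theorem chMap_comm (n : ℕ) :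
    chMap 𝒥 U τ n ≫ Scheme.IdealSheafData.inclusion (pow_succ_le S 𝒥 n) =
      qTrans (chI 𝒥 U τ) n ≫ chMap 𝒥 U τ (n + 1) := by
  refine (cancel_mono (𝒥 ^ (n + 1 + 1)).subschemeι).1 ?_
  have e : chMap 𝒥 U τ (n + 1) ≫ (𝒥 ^ (n + 1 + 1)).subschemeι =
      CohB1.specQuot (chI 𝒥 U τ) (n + 1) ≫ chBase U τ := chMap_ι 𝒥 U τ (n + 1)
  have e2 : Scheme.IdealSheafData.inclusion (pow_succ_le S 𝒥 n) ≫ (𝒥 ^ (n + 1 + 1)).subschemeι =
      (𝒥 ^ (n + 1)).subschemeι :=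
    Scheme.IdealSheafData.inclusion_subschemeι _
  rw [Category.assoc, Category.assoc, e, e2, chMap_ι, ← Category.assoc (qTrans _ _), qTrans_specQuot]

/-- The structure map of a chart. -/
def chHom : spf B (chI 𝒥 U τ) ⟶ completionAlong S 𝒥 := ⟨fun n => chMap 𝒥 U τ n, fun n => chMap_comm 𝒥 U τ n⟩

theorem chHom_app (n : ℕ) : (chHom 𝒥 U τ : FSch.Hom _ _).app n = chMap 𝒥 U τ n := rfl

theorem isPullback_chMap (n : ℕ) :
    IsPullback (CohB1.specQuot (chI 𝒥 U τ) n) (chMap 𝒥 U τ n) (chBase U τ) (𝒥 ^ (n + 1)).subschemeι := by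
  haveI : IsClosedImmersion (CohB1.specQuot (chI 𝒥 U τ) n) :=
    IsClosedImmersion.spec_of_surjective _ Ideal.Quotient.mk_surjective
  refine isPullback_of_isClosedImmersion _ _ _ _ (chMap_ι 𝒥 U τ n).symm ?_
  rw [Scheme.IdealSheafData.ker_subschemeι, comap_pow_chBase, ker_specQuot]

theorem isPullback_chMap_trans (n : ℕ) :
    IsPullback (qTrans (chI 𝒥 U τ) n) (chMap 𝒥 U τ n) (chMap 𝒥 U τ (n + 1))
      (Scheme.IdealSheafData.inclusion (pow_succ_le S 𝒥 n)) := by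
  refine IsPullback.of_right ?_ (chMap_comm 𝒥 U τ n).symm (isPullback_chMap 𝒥 U τ (n + 1))
  have e1 := qTrans_specQuot (chI 𝒥 U τ) n
  have e2 : Scheme.IdealSheafData.inclusion (pow_succ_le S 𝒥 n) ≫ (𝒥 ^ (n + 1 + 1)).subschemeι =
      (𝒥 ^ (n + 1)).subschemeι :=
    Scheme.IdealSheafData.inclusion_subschemeι _
  rw [e2]
  rw [e1]
  exact isPullback_chMap 𝒥 U τ n

theorem isAdicHom_chHom : IsAdicHom (chHom 𝒥 U τ) := fun n => isPullback_chMap_trans 𝒥 U τ n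

theorem smooth_chMap (hτ : τ.Smooth) (n : ℕ) : AlgebraicGeometry.Smooth (chMap 𝒥 U τ n) := by
  haveI : AlgebraicGeometry.Smooth (Spec.map (CommRingCat.ofHom τ)) :=
    (HasRingHomProperty.Spec_iff (P := @AlgebraicGeometry.Smooth)).mpr hτ
  haveI := U.2.isOpenImmersion_fromSpec
  have h2 : AlgebraicGeometry.Smooth U.2.fromSpec :=
    HasRingHomProperty.of_isOpenImmersion (P := @AlgebraicGeometry.Smooth)
      RingHom.Smooth.holdsForLocalizationAway.containsIdentities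
  haveI : AlgebraicGeometry.Smooth (chBase U τ) :=
    MorphismProperty.comp_mem @AlgebraicGeometry.Smooth _ _ inferInstance h2
  exact MorphismProperty.of_isPullback (P := @AlgebraicGeometry.Smooth) (isPullback_chMap 𝒥 U τ n) inferInstance

variable {A : Type u} [CommRing A] (σ : Γ(S, U.1) →+* A)

theorem map_chI_pow_eq_bot (n : ℕ) (g : B →+* A ⧸ (chI 𝒥 U σ) ^ (n + 1))
    (hg : g.comp τ = (Ideal.Quotient.mk _).comp σ) :
    ((chI 𝒥 U τ) ^ (n + 1)).map g = ⊥ := by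
  have h : (chI 𝒥 U τ).map g = (chI 𝒥 U σ).map (Ideal.Quotient.mk _) := by
    show ((𝒥.ideal U).map τ).map g = _
    rw [Ideal.map_map, hg, ← Ideal.map_map]
  rw [Ideal.map_pow, h]
  exact (Ideal.map_pow _ _ _).symm.trans (Ideal.map_quotient_self _)

theorem specMap_specQuot {B' A' : Type u} [CommRing B'] [CommRing A'] {I : Ideal B'} (n : ℕ)
    (G : B' ⧸ I ^ (n + 1) →+* A') (g : B' →+* A') (h : G.comp (Ideal.Quotient.mk _) = g) :
    Spec.map (CommRingCat.ofHom G) ≫ CohB1.specQuot I n = Spec.map (CommRingCat.ofHom g) := by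
  rw [CohB1.specQuot, ← Spec.map_comp, ← CommRingCat.ofHom_comp, h]

theorem specMap_chMap (n : ℕ) (G : B ⧸ (chI 𝒥 U τ) ^ (n + 1) →+* A ⧸ (chI 𝒥 U σ) ^ (n + 1))
    (h : (G.comp (Ideal.Quotient.mk _)).comp τ = (Ideal.Quotient.mk _).comp σ) :
    Spec.map (CommRingCat.ofHom G) ≫ chMap 𝒥 U τ n = chMap 𝒥 U σ n := by
  refine (cancel_mono (𝒥 ^ (n + 1)).subschemeι).1 ?_
  rw [Category.assoc, chMap_ι, chMap_ι, ← Category.assoc, specMap_specQuot n G _ rfl, CohB1.specQuot, chBase,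
    chBase, ← Category.assoc, ← Category.assoc, ← Spec.map_comp, ← Spec.map_comp, ← CommRingCat.ofHom_comp,
    ← CommRingCat.ofHom_comp, h]

theorem chartHom_comp (Φ : spf A (chI 𝒥 U σ) ⟶ spf B (chI 𝒥 U τ))
    (G : ∀ n, B ⧸ (chI 𝒥 U τ) ^ (n + 1) →+* A ⧸ (chI 𝒥 U σ) ^ (n + 1))
    (hΦ : ∀ n, (Φ : FSch.Hom _ _).app n = Spec.map (CommRingCat.ofHom (G n)))
    (h : ∀ n, ((G n).comp (Ideal.Quotient.mk _)).comp τ = (Ideal.Quotient.mk _).comp σ) :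
    Φ ≫ chHom 𝒥 U τ = chHom 𝒥 U σ :=
  FSch.Hom.ext (funext fun n =>
    (congrArg (· ≫ chMap 𝒥 U τ n) (hΦ n)).trans (specMap_chMap 𝒥 U τ σ n (G n) (h n)))

/-- Compatible ring maps give maps of charts. -/
theorem exists_chartHom (g : ∀ n, B →+* A ⧸ (chI 𝒥 U σ) ^ (n + 1))
    (hg : ∀ n, (g n).comp τ = (Ideal.Quotient.mk _).comp σ)
    (hc : ∀ n, (qFactor (chI 𝒥 U σ) n).comp (g (n + 1)) = g n) :
    ∃ Φ : spf A (chI 𝒥 U σ) ⟶ spf B (chI 𝒥 U τ), Φ ≫ chHom 𝒥 U τ = chHom 𝒥 U σ ∧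
      ∀ n, (Φ : FSch.Hom _ _).app n ≫ CohB1.specQuot (chI 𝒥 U τ) n = Spec.map (CommRingCat.ofHom (g n)) := by
  have hk : ∀ n, ∀ z ∈ (chI 𝒥 U τ) ^ (n + 1), g n z = 0 := fun n z hz =>
    (Submodule.mem_bot _).1 (map_chI_pow_eq_bot 𝒥 U τ σ n (g n) (hg n) ▸ Ideal.mem_map_of_mem (g n) hz)
  have hG : ∀ n, ∃ G : B ⧸ (chI 𝒥 U τ) ^ (n + 1) →+* A ⧸ (chI 𝒥 U σ) ^ (n + 1),
      G.comp (Ideal.Quotient.mk _) = g n := fun n => ⟨Ideal.Quotient.lift _ (g n) (hk n), RingHom.ext fun _ => rfl⟩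
  choose G hG' using hG
  have hcomm : ∀ n, (G n).comp (qFactor (chI 𝒥 U τ) n) =
      (qFactor (chI 𝒥 U σ) n).comp (G (n + 1)) := by
    intro n
    refine Ideal.Quotient.ringHom_ext ?_
    rw [RingHom.comp_assoc, RingHom.comp_assoc, Ideal.Quotient.factor_comp_mk, hG', hG', hc]
  obtain ⟨Φ, hΦ⟩ := exists_spfHom (chI 𝒥 U τ) (chI 𝒥 U σ) G hcomm
  refine ⟨Φ, chartHom_comp 𝒥 U τ σ Φ G hΦ (fun n => by rw [hG', hg]), fun n => ?_⟩
  rw [hΦ n]
  exact specMap_specQuot n (G n) (g n) (hG' n)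

/-- A smooth scheme over a closed subscheme lifts, locally, to a smooth algebra over the affine base. -/
theorem exists_chart {Y₀ : Scheme.{u}} (𝒦 : S.IdealSheafData) (b : Y₀ ⟶ 𝒦.subscheme)
    [AlgebraicGeometry.Smooth b] (U : S.affineOpens) (y : Y₀) (W : Y₀.Opens) (hy : y ∈ W)
    (hW : W ≤ (b ≫ 𝒦.subschemeι) ⁻¹ᵁ U.1) :
    ∃ (V₀ : Y₀.Opens) (_ : IsAffineOpen V₀) (_ : y ∈ V₀) (hVW : V₀ ≤ W) (B : Type u) (_ : CommRing B)
      (τ : Γ(S, U.1) →+* B) (φ : B →+* Γ(Y₀, V₀)),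
      τ.Smooth ∧ Function.Surjective φ ∧
      φ.comp τ = ((b ≫ 𝒦.subschemeι).appLE U.1 V₀ (hVW.trans hW)).hom ∧
      RingHom.ker φ = (𝒦.ideal U).map τ := by
  obtain ⟨V₁, hV₁, hyV₁, hV₁W⟩ := exists_isAffineOpen_mem_and_subset hy
  have hV₁W' : V₁ ≤ W := hV₁W
  have hU' : IsAffineOpen (𝒦.subschemeι ⁻¹ᵁ U.1) := U.2.preimage 𝒦.subschemeι
  have e₁ : V₁ ≤ b ⁻¹ᵁ (𝒦.subschemeι ⁻¹ᵁ U.1) := hV₁W'.trans hW
  have hb : (b.appLE _ V₁ e₁).hom.Smooth :=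
    HasRingHomProperty.appLE (P := @AlgebraicGeometry.Smooth) b inferInstance ⟨_, hU'⟩ ⟨_, hV₁⟩ e₁
  let φ₁ : Γ(S, U.1) ⧸ 𝒦.ideal U →+* Γ(Y₀, V₁) :=
    (b.appLE _ V₁ e₁).hom.comp (𝒦.subschemeObjIso U).inv.hom
  have hφ₁ : φ₁.Smooth :=
    (RingHom.Smooth.of_bijective (ConcreteCategory.bijective_of_isIso (𝒦.subschemeObjIso U).inv)).comp hb
  algebraize [φ₁]
  haveI : Algebra.Smooth (Γ(S, U.1) ⧸ 𝒦.ideal U) Γ(Y₀, V₁) := hφ₁
  let p := (hV₁.primeIdealOf ⟨y, hyV₁⟩).asIdeal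
  obtain ⟨h, hh, hstd⟩ := Algebra.IsSmoothAt.exists_notMem_isStandardSmooth
    (Γ(S, U.1) ⧸ 𝒦.ideal U) (S := Γ(Y₀, V₁)) p
  have hyh : y ∈ Y₀.basicOpen h := by
    have h1 : hV₁.primeIdealOf ⟨y, hyV₁⟩ ∈ hV₁.fromSpec ⁻¹ᵁ Y₀.basicOpen h := by
      rw [hV₁.fromSpec_preimage_basicOpen]
      exact hh
    have h2 : hV₁.fromSpec (hV₁.primeIdealOf ⟨y, hyV₁⟩) ∈ Y₀.basicOpen h := h1
    rwa [hV₁.fromSpec_primeIdealOf] at h2
  have hVW : Y₀.basicOpen h ≤ W := (Y₀.basicOpen_le h).trans hV₁W'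
  letI := (Y₀.presheaf.map (homOfLE (Y₀.basicOpen_le h)).op).hom.toAlgebra
  haveI : IsLocalization.Away h Γ(Y₀, Y₀.basicOpen h) := hV₁.isLocalization_basicOpen h
  let e := IsLocalization.algEquiv (Submonoid.powers h) (Localization.Away h) Γ(Y₀, Y₀.basicOpen h)
  have hkill : ∀ r ∈ 𝒦.ideal U,
      ((b ≫ 𝒦.subschemeι).appLE U.1 (Y₀.basicOpen h) (hVW.trans hW)).hom r = 0 := by
    intro r hr
    rw [Scheme.Hom.comp_appLE, CommRingCat.hom_comp, RingHom.comp_apply]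
    have : (𝒦.subschemeι.app U.1).hom r = 0 := by
      rw [← RingHom.mem_ker, Scheme.IdealSheafData.ker_subschemeι_app]; exact hr
    rw [this, map_zero]
  have hq : Ideal.Quotient.lift _ _ hkill =
      ((e : Localization.Away h →ₐ[Γ(Y₀, V₁)] Γ(Y₀, Y₀.basicOpen h)).toRingHom.comp
        (algebraMap Γ(Y₀, V₁) (Localization.Away h))).comp φ₁ := by
    refine Ideal.Quotient.ringHom_ext (RingHom.ext fun r => ?_)
    show ((b ≫ 𝒦.subschemeι).appLE U.1 (Y₀.basicOpen h) (hVW.trans hW)).hom r =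
      e (algebraMap _ _ (φ₁ (Ideal.Quotient.mk _ r)))
    rw [e.commutes, Scheme.Hom.comp_appLE, Scheme.IdealSheafData.subschemeι_app,
      ← Scheme.Hom.appLE_map b e₁ (homOfLE (Y₀.basicOpen_le h)).op]
    rfl
  have hstd' : RingHom.IsStandardSmooth (Ideal.Quotient.lift _ _ hkill) := by
    rw [hq, RingHom.comp_assoc]
    refine RingHom.isStandardSmooth_respectsIso.1 _ e.toRingEquiv ?_
    rw [← RingHom.algebraMap_toAlgebra φ₁, ← IsScalarTower.algebraMap_eq]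
    exact RingHom.isStandardSmooth_algebraMap.mpr hstd
  obtain ⟨B, _, τ, φ, h1, h2, h3, h4⟩ := exists_smooth_lift _ _ hkill hstd'
  exact ⟨Y₀.basicOpen h, hV₁.basicOpen h, hyh, hVW, B, inferInstance, τ, φ, h1, h2, h3, h4⟩

/-- The bottom level of a chart is the open subscheme it was built from. -/
theorem exists_bottomIso {Y₀ : Scheme.{u}} (b : Y₀ ⟶ (𝒥 ^ (0 + 1)).subscheme) {V₀ : Y₀.Opens}
    (hV₀ : IsAffineOpen V₀) (e : V₀ ≤ (b ≫ (𝒥 ^ (0 + 1)).subschemeι) ⁻¹ᵁ U.1) (φ : B →+* Γ(Y₀, V₀))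
    (hsurj : Function.Surjective φ) (hφ : φ.comp τ = ((b ≫ (𝒥 ^ (0 + 1)).subschemeι).appLE U.1 V₀ e).hom)
    (hker : RingHom.ker φ = (chI 𝒥 U τ) ^ (0 + 1)) :
    ∃ (θ : Γ(Y₀, V₀) →+* B ⧸ (chI 𝒥 U τ) ^ (0 + 1))
      (i : Spec (CommRingCat.of (B ⧸ (chI 𝒥 U τ) ^ (0 + 1))) ≅ V₀.toScheme),
      (∀ z, θ (φ z) = Ideal.Quotient.mk _ z) ∧
      i.hom ≫ V₀.ι = Spec.map (CommRingCat.ofHom θ) ≫ hV₀.fromSpec ∧
      i.hom ≫ V₀.ι ≫ b = chMap 𝒥 U τ 0 := by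
  let θ₀ : (B ⧸ (chI 𝒥 U τ) ^ (0 + 1)) ≃+* Γ(Y₀, V₀) :=
    (Ideal.quotEquivOfEq hker.symm).trans (RingHom.quotientKerEquivOfSurjective hsurj)
  have hθ : ∀ z, θ₀.symm (φ z) = Ideal.Quotient.mk _ z := fun z => (RingEquiv.symm_apply_eq θ₀).2 rfl
  let c : CommRingCat.of (B ⧸ (chI 𝒥 U τ) ^ (0 + 1)) ≅ Γ(Y₀, V₀) := θ₀.toCommRingCatIso
  let i : Spec (CommRingCat.of (B ⧸ (chI 𝒥 U τ) ^ (0 + 1))) ≅ V₀.toScheme :=
    (Scheme.Spec.mapIso c.op).symm ≪≫ hV₀.isoSpec.symm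
  have hi : i.hom ≫ V₀.ι = Spec.map (CommRingCat.ofHom θ₀.symm.toRingHom) ≫ hV₀.fromSpec := by
    simp only [i, Iso.trans_hom, Category.assoc, Iso.symm_hom, IsAffineOpen.isoSpec_inv_ι]
    rfl
  refine ⟨θ₀.symm.toRingHom, i, hθ, hi, (cancel_mono (𝒥 ^ (0 + 1)).subschemeι).1 ?_⟩
  have he : θ₀.symm.toRingHom.comp ((b ≫ (𝒥 ^ (0 + 1)).subschemeι).appLE U.1 V₀ e).hom =
      (Ideal.Quotient.mk _).comp τ := by
    rw [← hφ, ← RingHom.comp_assoc]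
    exact congrArg (fun h => RingHom.comp h τ) (RingHom.ext hθ)
  rw [Category.assoc, Category.assoc, reassoc_of% hi, chMap_ι,
    ← IsAffineOpen.SpecMap_appLE_fromSpec (b ≫ (𝒥 ^ (0 + 1)).subschemeι) U.2 hV₀ e, CohB1.specQuot, chBase,
    ← Category.assoc, ← Category.assoc, ← Spec.map_comp, ← Spec.map_comp]
  exact congrArg (fun h => Spec.map (CommRingCat.ofHom h) ≫ U.2.fromSpec) he

end SmFormalLib
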