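import Mathlib.RingTheory.Smooth.StandardSmoothCotangent
import Mathlib.RingTheory.Smooth.StandardSmoothOfFree
import Mathlib.RingTheory.RingHom.Smooth
import Mathlib.RingTheory.RingHom.StandardSmooth

/-!
# Lifting standard smooth algebras along quotients, and maps between the lifts formally
-/

set_option autoImplicit false
set_option linter.style.haveILetI false

universe u

open MvPolynomial

noncomputable section

namespace SmFormalLib

theorem smooth_away_jacobian {A : Type u} [CommRing A] {ι σ : Type} [Finite ι] [Fintype σ] [DecidableEq σ]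
    (a : σ → ι) (ha : Function.Injective a) (v : σ → MvPolynomial ι A) :
    Algebra.Smooth A (Localization.Away
      (Ideal.Quotient.mk (Ideal.span (Set.range v)) (Matrix.of fun i j => pderiv (a i) (v j)).det)) := by
  set Q := MvPolynomial ι A ⧸ Ideal.span (Set.range v)
  set J : Q := Ideal.Quotient.mk _ (Matrix.of fun i j => pderiv (a i) (v j)).det with hJ
  let p : Algebra.PreSubmersivePresentation A Q ι σ :=
    Algebra.PreSubmersivePresentation.naive (R := A) (v := v) a ha
  have hp : p.jacobian = J := by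
    rw [Algebra.PreSubmersivePresentation.jacobian_eq_jacobiMatrix_det, hJ,
      show p.jacobiMatrix = Matrix.of fun i j => pderiv (a i) (v j) from
        Matrix.ext fun i j => Algebra.PreSubmersivePresentation.jacobiMatrix_naive (a := a) _ _ _ i j]
    rfl
  let T := Localization.Away J
  have hu : IsUnit (algebraMap Q T J) := IsLocalization.Away.algebraMap_isUnit J
  let c := (Algebra.PreSubmersivePresentation.localizationAway T J).comp p
  have hcu : IsUnit c.jacobian := by
    rw [Algebra.PreSubmersivePresentation.comp_jacobian_eq_jacobian_smul_jacobian, hp,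
      Algebra.PreSubmersivePresentation.localizationAway_jacobian, Algebra.smul_def]
    exact hu.mul hu
  let s : Algebra.SubmersivePresentation A T (Unit ⊕ ι) (Unit ⊕ σ) := { c with jacobian_isUnit := hcu }
  haveI : Algebra.IsStandardSmooth A T := s.isStandardSmooth
  exact inferInstance

/-- A standard smooth algebra over a quotient lifts to a smooth algebra. -/
theorem exists_smooth_lift {R : Type u} [CommRing R] (J : Ideal R) {B₀ : Type u} [CommRing B₀] (τ₀ : R →+* B₀)
    (hJ : ∀ r ∈ J, τ₀ r = 0) (h : RingHom.IsStandardSmooth (Ideal.Quotient.lift J τ₀ hJ)) :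
    ∃ (B : Type u) (_ : CommRing B) (τ : R →+* B) (φ : B →+* B₀),
      τ.Smooth ∧ Function.Surjective φ ∧ φ.comp τ = τ₀ ∧ RingHom.ker φ = J.map τ := by
  classical
  letI := (Ideal.Quotient.lift J τ₀ hJ).toAlgebra
  haveI : Algebra.IsStandardSmooth (R ⧸ J) B₀ := h
  obtain ⟨ι, σ, hσ, hι, ⟨P⟩⟩ := Algebra.IsStandardSmooth.out (R := R ⧸ J) (S := B₀)
  letI := Fintype.ofFinite σ
  let ev : MvPolynomial ι (R ⧸ J) →+* B₀ := (MvPolynomial.aeval P.val).toRingHom
  let red : MvPolynomial ι R →+* MvPolynomial ι (R ⧸ J) := MvPolynomial.map (Ideal.Quotient.mk J)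
  have hred : Function.Surjective red := MvPolynomial.map_surjective _ Ideal.Quotient.mk_surjective
  choose v hv using fun j => hred (P.relation j)
  have hev : Function.Surjective ev := fun b => ⟨P.σ b, P.aeval_val_σ b⟩
  let det := (Matrix.of fun i j => pderiv (P.map i) (v j)).det
  let B := Localization.Away (Ideal.Quotient.mk (Ideal.span (Set.range v)) det)
  let toB : MvPolynomial ι R →+* B :=
    (algebraMap _ B).comp (Ideal.Quotient.mk (Ideal.span (Set.range v)))
  let φ₁ : MvPolynomial ι R ⧸ Ideal.span (Set.range v) →+* B₀ := Ideal.Quotient.lift _ (ev.comp red) fun p hp => by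
    have hle : Ideal.span (Set.range v) ≤ RingHom.ker (ev.comp red) := Ideal.span_le.2 fun _ ⟨j, hj⟩ => by
      rw [← hj, SetLike.mem_coe, RingHom.mem_ker, RingHom.comp_apply, hv]
      exact P.aeval_val_relation j
    exact hle hp
  have hdet : IsUnit (φ₁ (Ideal.Quotient.mk (Ideal.span (Set.range v)) det)) := by
    show IsUnit (ev (red det))
    have e : red det = P.jacobiMatrix.det := by
      rw [RingHom.map_det]
      congr 1
      ext i j : 1
      rw [Algebra.PreSubmersivePresentation.jacobiMatrix_apply]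
      show red (pderiv (P.map i) (v j)) = _
      rw [← hv j]
      exact (MvPolynomial.pderiv_map).symm
    rw [e]
    have := P.jacobian_isUnit
    rw [Algebra.PreSubmersivePresentation.jacobian_eq_jacobiMatrix_det] at this
    rw [Algebra.Generators.algebraMap_apply] at this
    exact this
  let φ : B →+* B₀ := IsLocalization.Away.lift (S := B) _ (g := φ₁) hdet
  have hφ : φ.comp toB = ev.comp red := RingHom.ext fun p => IsLocalization.Away.lift_eq _ hdet _
  let τ : R →+* B := toB.comp MvPolynomial.C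
  have hcomp : φ.comp τ = τ₀ := by
    refine RingHom.ext fun r => ?_
    show φ (toB (MvPolynomial.C r)) = _
    rw [show φ (toB (MvPolynomial.C r)) = ev (red (MvPolynomial.C r)) from RingHom.congr_fun hφ _]
    simp [red, ev, RingHom.algebraMap_toAlgebra]
  haveI hsm : Algebra.Smooth R B := smooth_away_jacobian P.map P.map_inj v
  refine ⟨B, inferInstance, τ, φ, ?_, ?_, hcomp, le_antisymm (fun b hb => ?_) ?_⟩
  · rw [show τ = algebraMap R B from ?_, RingHom.smooth_algebraMap]
    · exact hsm
    · refine RingHom.ext fun r => ?_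
      rfl
  · intro b
    obtain ⟨p, rfl⟩ := hev b
    obtain ⟨q, rfl⟩ := hred p
    exact ⟨toB q, RingHom.congr_fun hφ q⟩
  · let θ : MvPolynomial ι (R ⧸ J) →+* B ⧸ J.map τ :=
      MvPolynomial.eval₂Hom (Ideal.quotientMap (J.map τ) τ Ideal.le_comap_map)
        fun i => Ideal.Quotient.mk _ (toB (MvPolynomial.X i))
    have hθ : θ.comp red = (Ideal.Quotient.mk (J.map τ)).comp toB :=
      MvPolynomial.ringHom_ext (fun r => by simp [θ, red, τ]) fun i => by simp [θ, red]
    have hker : RingHom.ker ev ≤ RingHom.ker θ := by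
      show RingHom.ker (MvPolynomial.aeval P.val).toRingHom ≤ _
      refine le_of_eq_of_le (b := Ideal.span (Set.range P.relation)) ?_ (Ideal.span_le.2 ?_)
      · rw [P.span_range_relation_eq_ker, Algebra.Generators.ker_eq_ker_aeval_val]
        rfl
      · rintro _ ⟨j, rfl⟩
        rw [← hv j, SetLike.mem_coe, RingHom.mem_ker,
          show θ (red (v j)) = Ideal.Quotient.mk (J.map τ) (toB (v j)) from RingHom.congr_fun hθ _,
          show toB (v j) = 0 from ?_, map_zero]
        show algebraMap _ B (Ideal.Quotient.mk (Ideal.span (Set.range v)) (v j)) = 0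
        rw [Ideal.Quotient.eq_zero_iff_mem.2 (Ideal.subset_span (Set.mem_range_self j)), map_zero]
    let ψ : B₀ →+* B ⧸ J.map τ := RingHom.liftOfSurjective ev hev ⟨θ, hker⟩
    have hψ : ψ.comp φ = Ideal.Quotient.mk (J.map τ) := by
      refine IsLocalization.ringHom_ext
        (Submonoid.powers (Ideal.Quotient.mk (Ideal.span (Set.range v)) det)) (Ideal.Quotient.ringHom_ext ?_)
      show (ψ.comp φ).comp toB = (Ideal.Quotient.mk (J.map τ)).comp toB
      rw [RingHom.comp_assoc, hφ, ← hθ, ← RingHom.comp_assoc]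
      congr 1
      exact RingHom.liftOfSurjective_comp ev hev ⟨θ, hker⟩
    rw [← Ideal.Quotient.eq_zero_iff_mem, ← RingHom.congr_fun hψ b, RingHom.comp_apply, show φ b = 0 from hb, map_zero]
  · rw [Ideal.map_le_iff_le_comap]
    intro r hr
    show φ (τ r) = 0
    rw [show φ (τ r) = τ₀ r from RingHom.congr_fun hcomp r, hJ r hr]

/-- Maps out of a smooth algebra lift compatibly to all truncations. -/
theorem exists_lifts {R B A : Type u} [CommRing R] [CommRing B] [CommRing A] (τB : R →+* B) (hB : τB.Smooth)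
    (τA : R →+* A) (I : Ideal A) (g₀ : B →+* A ⧸ I) (h₀ : g₀.comp τB = (Ideal.Quotient.mk I).comp τA) :
    ∃ g : ∀ n : ℕ, B →+* A ⧸ I ^ (n + 1), (∀ n, (g n).comp τB = (Ideal.Quotient.mk _).comp τA) ∧
      (∀ n, (Ideal.Quotient.factor (Ideal.pow_le_pow_right (Nat.le_succ (n + 1)))).comp (g (n + 1)) = g n) ∧
      (Ideal.Quotient.factor (show I ^ (0 + 1) ≤ I by rw [zero_add, pow_one])).comp (g 0) = g₀ := by
  algebraize [τB, τA]
  haveI : Algebra.FormallySmooth R B := hB.formallySmooth
  let G : ℕ → Type u := fun n => { g : B →ₐ[R] A ⧸ I ^ (n + 1) //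
    (Ideal.Quotient.factor (show I ^ (n + 1) ≤ I from Ideal.pow_le_self n.succ_ne_zero)).comp g.toRingHom = g₀ }
  let g₀' : B →ₐ[R] A ⧸ I := { g₀ with commutes' := fun r => RingHom.congr_fun h₀ r }
  have h1 : I ≤ I ^ (0 + 1) := by rw [zero_add, pow_one]
  have h2 : I ^ (0 + 1) ≤ I := Ideal.pow_le_self (0 : ℕ).succ_ne_zero
  let start : G 0 := ⟨(Ideal.Quotient.factorₐ R h1).comp g₀', RingHom.ext fun b => by
    obtain ⟨a, ha⟩ := Ideal.Quotient.mk_surjective (g₀' b)
    show Ideal.Quotient.factor h2 (Ideal.Quotient.factor h1 (g₀' b)) = g₀' b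
    rw [← ha, Ideal.Quotient.factor_mk, Ideal.Quotient.factor_mk]⟩
  have step : ∀ n (g : G n), ∃ g' : G (n + 1),
      (Ideal.Quotient.factorₐ R (Ideal.pow_le_pow_right (Nat.le_succ (n + 1)))).comp g'.1 = g.1 := by
    intro n g
    let π := Ideal.Quotient.factorₐ R (Ideal.pow_le_pow_right (I := I) (Nat.le_succ (n + 1)))
    have hπ : Function.Surjective π := fun x => by
      obtain ⟨a, rfl⟩ := Ideal.Quotient.mk_surjective x
      exact ⟨Ideal.Quotient.mk _ a, rfl⟩
    have hnil : IsNilpotent (RingHom.ker (π : A ⧸ I ^ (n + 1 + 1) →+* A ⧸ I ^ (n + 1))) := by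
      have hle : RingHom.ker (π : A ⧸ I ^ (n + 1 + 1) →+* A ⧸ I ^ (n + 1)) ≤
          (I ^ (n + 1)).map (Ideal.Quotient.mk (I ^ (n + 1 + 1))) := fun z hz => by
        obtain ⟨a, rfl⟩ := Ideal.Quotient.mk_surjective z
        exact Ideal.mem_map_of_mem _ (Ideal.Quotient.eq_zero_iff_mem.1 hz)
      refine ⟨2, le_bot_iff.1 ((Ideal.pow_right_mono hle 2).trans ?_)⟩
      rw [← Ideal.map_pow, ← pow_mul, ← Ideal.map_quotient_self (I ^ (n + 1 + 1))]
      exact Ideal.map_mono (Ideal.pow_le_pow_right (by omega))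
    let g' := Algebra.FormallySmooth.liftOfSurjective g.1 π hπ hnil
    have hg' : π.comp g' = g.1 := AlgHom.ext fun b => Algebra.FormallySmooth.liftOfSurjective_apply _ _ hπ hnil b
    refine ⟨⟨g', RingHom.ext fun b => ?_⟩, hg'⟩
    obtain ⟨a, ha⟩ := Ideal.Quotient.mk_surjective (g' b)
    refine Eq.trans ?_ (RingHom.congr_fun g.2 b)
    have e : g.1 b = Ideal.Quotient.factor (Ideal.pow_le_pow_right (I := I) (Nat.le_succ (n + 1))) (g' b) :=
      (AlgHom.congr_fun hg' b).symm
    show Ideal.Quotient.factor (Ideal.pow_le_self (I := I) (n + 1).succ_ne_zero) (g' b) =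
      Ideal.Quotient.factor (Ideal.pow_le_self (I := I) n.succ_ne_zero) (g.1 b)
    rw [e, ← ha, Ideal.Quotient.factor_mk, Ideal.Quotient.factor_mk, Ideal.Quotient.factor_mk]
  choose next hnext using step
  let seq : ∀ n, G n := fun n => Nat.rec start next n
  exact ⟨fun n => (seq n).1.toRingHom, fun n => RingHom.ext fun r => (seq n).1.commutes r,
    fun n => RingHom.ext fun b => AlgHom.congr_fun (hnext n (seq n)) b, (seq 0).2⟩

end SmFormalLib
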